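import Cfsg.Agent.Helper50.K4KM
import Cfsg.Agent.Helper76.K4PD3
import Cfsg.Agent.Helper12.K4KB
import Cfsg.Agent.Helper12.K4KA1
import Cfsg.Agent.Helper12.K4KA2
import Cfsg.Agent.Helper74.K4B3
import Cfsg.Agent.Helper54.BT.Main
import Cfsg.Agent.S0144

/-!
# S4501: simple groups of order `4 p^a q^b` and `3 p^a q^b` (`a ≤ 2`): assembly
-/

set_option autoImplicit false

namespace Cfsg.Agent.Helper54.K4

open Cfsg
open scoped ComplexConjugate

universe u

/-- a nonabelian simple group is not a `{p, q}`-group (Burnside) -/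
theorem not_two_primes {G : Type u} [Group G] [Finite G] [IsSimpleGroup G]
    (hna : ∃ x y : G, x * y ≠ y * x) (p q a b : ℕ) (hp : p.Prime) (hq : q.Prime)
    (h : Nat.card G = p ^ a * q ^ b) : False := by
  have hs := Cfsg.Agent.S0144.result p q a b hp hq h
  have hc := (IsSimpleGroup.comm_iff_isSolvable (G := G)).mpr hs
  obtain ⟨x, y, hxy⟩ := hna
  exact hxy (hc x y)

/-- a nonabelian group is not cyclic -/
theorem not_cyclic_of_noncomm {G : Type u} [Group G] (hna : ∃ x y : G, x * y ≠ y * x) :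
    ¬ IsCyclic G := by
  intro h
  obtain ⟨x, y, hxy⟩ := hna
  letI := @IsCyclic.commGroup G _ h
  exact hxy (mul_comm x y)

/-- the order of a Sylow subgroup -/
theorem card_sylow_of_card {G : Type u} [Group G] [Finite G] (ℓ : ℕ) [Fact ℓ.Prime] (k m : ℕ)
    (h : Nat.card G = ℓ ^ k * m) (hm : ¬ ℓ ∣ m) (Q : Sylow ℓ G) : Nat.card Q = ℓ ^ k := by
  have hℓ : ℓ.Prime := Fact.out
  have hm0 : m ≠ 0 := by
    rintro rfl
    exact hm (dvd_zero _)
  have hfac : (Nat.card G).factorization ℓ = k := by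
    rw [h, Nat.factorization_mul (pow_ne_zero _ hℓ.ne_zero) hm0, Nat.factorization_pow]
    have h1 : ℓ.factorization ℓ = 1 := hℓ.factorization_self
    have h2 : m.factorization ℓ = 0 := Nat.factorization_eq_zero_of_not_dvd hm
    simp [h1, h2]
  have := Q.card_eq_multiplicity
  rw [hfac] at this
  exact this

/-- groups of order `3 p^a q^b`, `a ≤ 2` -/
theorem part_two {G : Type u} [Group G] [Finite G] [IsSimpleGroup G]
    (hna : ∃ x y : G, x * y ≠ y * x) (p q a b : ℕ) (hp : p.Prime) (hq : q.Prime) (hpq : p ≠ q)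
    (ha : a ≤ 2) (hcard : Nat.card G = 3 * p ^ a * q ^ b) :
    Nonempty (G ≃* alternatingGroup (Fin 5)) ∨
      Nonempty (G ≃* Matrix.ProjectiveSpecialLinearGroup (Fin 2) (ZMod 7)) := by
  classical
  have h3 : Nat.Prime 3 := Nat.prime_three
  have hcyc := not_cyclic_of_noncomm hna
  -- the degenerate cases
  by_cases hp3 : p = 3
  · exfalso
    subst hp3
    exact not_two_primes hna 3 q (a + 1) b h3 hq (by rw [hcard]; ring)
  by_cases hq3 : q = 3
  · exfalso
    subst hq3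
    exact not_two_primes hna p 3 a (b + 1) hp h3 (by rw [hcard]; ring)
  by_cases ha0 : a = 0
  · exfalso
    subst ha0
    exact not_two_primes hna 3 q 1 b h3 hq (by rw [hcard]; ring)
  by_cases ha1 : a = 1
  · -- `S0998`
    subst ha1
    have h60 := BT.card_eq_60_or_168 hcyc p q 3 b hp hq h3 hpq hp3 hq3 (by rw [hcard]; ring)
    rcases h60 with h | h
    · left
      exact Cfsg.Agent.S0494.result h
    · right
      haveI : Fact (Nat.Prime 7) := ⟨by norm_num⟩
      exact Cfsg.Agent.S0495.result h (F := ZMod 7) (ZMod.card 7)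
  have ha2 : a = 2 := by omega
  subst ha2
  letI : Fintype G := Fintype.ofFinite G
  have hperf := BT.perfect_of_simple54 hcyc
  -- the Sylow `3`-subgroup
  obtain ⟨P⟩ : Nonempty (Sylow 3 G) := inferInstance
  have hP : Nat.card P = 3 := by
    have := card_sylow_of_card 3 1 (p ^ 2 * q ^ b) (by rw [hcard]; ring) (by
      intro h
      rcases (Nat.Prime.dvd_mul h3).mp h with h | h
      · exact hp3 ((Nat.prime_dvd_prime_iff_eq h3 hp).mp (h3.dvd_of_dvd_pow h)).symm
      · exact hq3 ((Nat.prime_dvd_prime_iff_eq h3 hq).mp (h3.dvd_of_dvd_pow h)).symm) P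
    simpa using this
  obtain ⟨ψ₁, ψ₂, hdeg, hd2, hn1, hn2⟩ := Helper74.K4.exists_consec_degrees hperf P hP
  set d := charDegree (ψ₁ : G → ℂ) with hd
  have hdvd1 : d ∣ p ^ 2 * q ^ b := by
    have h := Helper74.charDegree_dvd_card ψ₁
    rw [hcard, mul_assoc] at h
    exact ((Nat.Prime.coprime_iff_not_dvd h3).mpr hn1).symm.dvd_of_dvd_mul_left h
  have hdvd2 : d + 1 ∣ p ^ 2 * q ^ b := by
    have h := Helper74.charDegree_dvd_card ψ₂
    rw [hdeg, hcard, mul_assoc] at h
    rw [hdeg] at hn2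
    exact ((Nat.Prime.coprime_iff_not_dvd h3).mpr hn2).symm.dvd_of_dvd_mul_left h
  rcases Helper12.K4.consec_arith p q b d hp hq hpq hp3 hq3 hd2 hdvd1 hdvd2 with ⟨hp2, hq5, hd4⟩ | ⟨hq2, hdp⟩
  · -- `p = 2`, `q = 5`: a character of degree `5`
    left
    subst hp2
    subst hq5
    haveI : Fact (Nat.Prime 5) := ⟨hq⟩
    obtain ⟨Q⟩ : Nonempty (Sylow 5 G) := inferInstance
    have h5 : charDegree (ψ₂ : G → ℂ) = 5 := by rw [hdeg, hd4]
    have hQ := Helper76.K4.card_sylow_of_degree hperf 5 ψ₂ h5 Q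
    have hQ' := card_sylow_of_card 5 b 12 (by rw [hcard]; ring) (by norm_num) Q
    rw [hQ] at hQ'
    apply Cfsg.Agent.S0494.result
    rw [hcard, ← hQ']
    norm_num
  · -- `q = 2`: a character of degree `p`
    exfalso
    subst hq2
    haveI : Fact p.Prime := ⟨hp⟩
    obtain ⟨Q⟩ : Nonempty (Sylow p G) := inferInstance
    have hQ' := card_sylow_of_card p 2 (3 * 2 ^ b) (by rw [hcard]; ring) (by
      intro h
      rcases (Nat.Prime.dvd_mul hp).mp h with h | h
      · exact hp3 ((Nat.prime_dvd_prime_iff_eq hp h3).mp h)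
      · exact hpq ((Nat.prime_dvd_prime_iff_eq hp hq).mp (hp.dvd_of_dvd_pow h))) Q
    have hQ : Nat.card Q = p := by
      rcases hdp with h | h
      · exact Helper76.K4.card_sylow_of_degree hperf p ψ₁ h Q
      · exact Helper76.K4.card_sylow_of_degree hperf p ψ₂ (by rw [hdeg]; exact h) Q
    rw [hQ] at hQ'
    have := hp.two_le
    nlinarith

/-- groups of order `4 p^a q^b` -/
theorem part_one {G : Type u} [Group G] [Finite G] [IsSimpleGroup G]
    (hna : ∃ x y : G, x * y ≠ y * x) (p q a b : ℕ) (hp : p.Prime) (hq : q.Prime) (hpq : p ≠ q)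
    (hcard : Nat.card G = 4 * p ^ a * q ^ b) : Nonempty (G ≃* alternatingGroup (Fin 5)) := by
  classical
  have h2 : Nat.Prime 2 := Nat.prime_two
  have hcyc := not_cyclic_of_noncomm hna
  by_cases hp2 : p = 2
  · exfalso
    subst hp2
    exact not_two_primes hna 2 q (a + 2) b h2 hq (by rw [hcard]; ring)
  by_cases hq2 : q = 2
  · exfalso
    subst hq2
    exact not_two_primes hna p 2 a (b + 2) hp h2 (by rw [hcard]; ring)
  letI : Fintype G := Fintype.ofFinite G
  have hperf := BT.perfect_of_simple54 hcyc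
  obtain ⟨ζ₂, ζ₃, ζ₄, ε, hε, hu2, hv2, hw2, hu4, hv4, hw4, hrel, hprimes⟩ :=
    Helper50.K4.klein_data hperf p q a b hp hq hp2 hq2 hcard
  set u := charDegree (ζ₂ : G → ℂ) with hu
  set v := charDegree (ζ₃ : G → ℂ) with hv
  set w := charDegree (ζ₄ : G → ℂ) with hw
  -- the degrees divide `p^a q^b`
  have hodd : ∀ d : ℕ, d ∣ Nat.card G → (∃ s : ℤ, (s = 1 ∨ s = -1) ∧ (4 : ℤ) ∣ (d : ℤ) - s) →
      d ∣ p ^ a * q ^ b := by
    intro d hd ⟨s, hs, h4⟩
    rw [hcard, mul_assoc] at hd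
    have hdo : Nat.Coprime d 4 := by
      have h2d : ¬ 2 ∣ d := by
        intro h
        have h1 : (2 : ℤ) ∣ (d : ℤ) := by exact_mod_cast h
        have h3 : (2 : ℤ) ∣ (d : ℤ) - s := Dvd.dvd.trans (by norm_num) h4
        have h5 : (2 : ℤ) ∣ s := by
          have := dvd_sub h1 h3
          simpa using this
        rcases hs with rfl | rfl <;> norm_num at h5
      have : Nat.Coprime d 2 := ((Nat.Prime.coprime_iff_not_dvd h2).mpr h2d).symm
      exact Nat.Coprime.pow_right 2 this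
    exact hdo.dvd_of_dvd_mul_left hd
  have hud : u ∣ p ^ a * q ^ b :=
    hodd u (Helper74.charDegree_dvd_card ζ₂) ⟨1, Or.inl rfl, hu4⟩
  have hvd : v ∣ p ^ a * q ^ b :=
    hodd v (Helper74.charDegree_dvd_card ζ₃) ⟨ε, hε, hv4⟩
  have hwd : w ∣ p ^ a * q ^ b :=
    hodd w (Helper74.charDegree_dvd_card ζ₄) ⟨-1, Or.inr rfl, by simpa using hw4⟩
  -- the shapes
  have hsu := Helper12.K4.shape_of_dvd p q a b u 1 hp hq hpq hp2 hq2 (Or.inl rfl) hu2 hud hu4
    (fun ℓ hℓ h => hprimes ℓ hℓ (Dvd.dvd.mul_right (Dvd.dvd.mul_right h _) _))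
  have hsv := Helper12.K4.shape_of_dvd p q a b v ε hp hq hpq hp2 hq2 hε hv2 hvd hv4
    (fun ℓ hℓ h => hprimes ℓ hℓ (Dvd.dvd.mul_right (Dvd.dvd.mul_left h _) _))
  have hsw := Helper12.K4.shape_of_dvd p q a b w (-1) hp hq hpq hp2 hq2 (Or.inr rfl) hw2 hwd
    (by simpa using hw4)
    (fun ℓ hℓ h => hprimes ℓ hℓ (Dvd.dvd.mul_left h _))
  obtain ⟨hu5, hv3, hw3, hpq35⟩ := Helper12.K4.klein_arith_core p q u v w ε hp hq hpq hp2 hq2 hε hu4 hv4 hw4
    hrel hsu hsv hsw
  -- Sylow subgroups of order `5` and `3`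
  haveI : Fact (Nat.Prime 5) := ⟨by norm_num⟩
  obtain ⟨Q5⟩ : Nonempty (Sylow 5 G) := inferInstance
  obtain ⟨Q3⟩ : Nonempty (Sylow 3 G) := inferInstance
  have hQ5 := Helper76.K4.card_sylow_of_degree hperf 5 ζ₂ hu5 Q5
  have hQ3 := Helper76.K4.card_sylow_of_degree hperf 3 ζ₄ hw3 Q3
  apply Cfsg.Agent.S0494.result
  rcases hpq35 with ⟨rfl, rfl⟩ | ⟨rfl, rfl⟩
  · have h3' := card_sylow_of_card 3 a (4 * 5 ^ b) (by rw [hcard]; ring) (by
      intro h
      have : (3 : ℕ) ∣ 4 ∨ 3 ∣ 5 ^ b := (Nat.Prime.dvd_mul Nat.prime_three).mp h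
      rcases this with h | h
      · norm_num at h
      · have := Nat.prime_three.dvd_of_dvd_pow h
        norm_num at this) Q3
    have h5' := card_sylow_of_card 5 b (4 * 3 ^ a) (by rw [hcard]; ring) (by
      intro h
      have : (5 : ℕ) ∣ 4 ∨ 5 ∣ 3 ^ a := (Nat.Prime.dvd_mul (by norm_num)).mp h
      rcases this with h | h
      · norm_num at h
      · have := (Nat.Prime.dvd_of_dvd_pow (by norm_num) h : (5 : ℕ) ∣ 3)
        norm_num at this) Q5
    rw [hQ3] at h3'
    rw [hQ5] at h5'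
    rw [hcard, ← h3', ← h5']
  · have h3' := card_sylow_of_card 3 b (4 * 5 ^ a) (by rw [hcard]; ring) (by
      intro h
      have : (3 : ℕ) ∣ 4 ∨ 3 ∣ 5 ^ a := (Nat.Prime.dvd_mul Nat.prime_three).mp h
      rcases this with h | h
      · norm_num at h
      · have := Nat.prime_three.dvd_of_dvd_pow h
        norm_num at this) Q3
    have h5' := card_sylow_of_card 5 a (4 * 3 ^ b) (by rw [hcard]; ring) (by
      intro h
      have : (5 : ℕ) ∣ 4 ∨ 5 ∣ 3 ^ b := (Nat.Prime.dvd_mul (by norm_num)).mp h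
      rcases this with h | h
      · norm_num at h
      · have := (Nat.Prime.dvd_of_dvd_pow (by norm_num) h : (5 : ℕ) ∣ 3)
        norm_num at this) Q5
    rw [hQ3] at h3'
    rw [hQ5] at h5'
    rw [hcard, ← h3', ← h5']

end Cfsg.Agent.Helper54.K4
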